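import Cfsg.Agent.Lib.Fi23Out.Check

/-! Kernel checks: fixed points of the element of order thirteen, covering, separation. -/

set_option autoImplicit false
set_option maxRecDepth 100000
set_option Elab.async false

namespace Cfsg.Agent.Fi23Out

open Cfsg.Agent.Enum

theorem y_fix_ok_0 : allRange chkYFix 64 0 1024 = true := by decide +kernel
theorem y_fix_ok_1 : allRange chkYFix 64 1024 1024 = true := by decide +kernel
theorem y_fix_ok_2 : allRange chkYFix 64 2048 1024 = true := by decide +kernel
theorem y_fix_ok_3 : allRange chkYFix 64 3072 1024 = true := by decide +kernel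
theorem y_fix_ok_4 : allRange chkYFix 64 4096 1024 = true := by decide +kernel
theorem y_fix_ok_5 : allRange chkYFix 64 5120 1024 = true := by decide +kernel
theorem y_fix_ok_6 : allRange chkYFix 64 6144 1024 = true := by decide +kernel
theorem y_fix_ok_7 : allRange chkYFix 64 7168 1024 = true := by decide +kernel
theorem y_fix_ok_8 : allRange chkYFix 64 8192 1024 = true := by decide +kernel
theorem y_fix_ok_9 : allRange chkYFix 64 9216 1024 = true := by decide +kernel
theorem y_fix_ok_10 : allRange chkYFix 64 10240 1024 = true := by decide +kernel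
theorem y_fix_ok_11 : allRange chkYFix 64 11264 1024 = true := by decide +kernel
theorem y_fix_ok_12 : allRange chkYFix 64 12288 1024 = true := by decide +kernel
theorem y_fix_ok_13 : allRange chkYFix 64 13312 1024 = true := by decide +kernel
theorem y_fix_ok_14 : allRange chkYFix 64 14336 1024 = true := by decide +kernel
theorem y_fix_ok_15 : allRange chkYFix 64 15360 1024 = true := by decide +kernel
theorem y_fix_ok_16 : allRange chkYFix 64 16384 1024 = true := by decide +kernel
theorem y_fix_ok_17 : allRange chkYFix 64 17408 1024 = true := by decide +kernel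
theorem y_fix_ok_18 : allRange chkYFix 64 18432 1024 = true := by decide +kernel
theorem y_fix_ok_19 : allRange chkYFix 64 19456 1024 = true := by decide +kernel
theorem y_fix_ok_20 : allRange chkYFix 64 20480 1024 = true := by decide +kernel
theorem y_fix_ok_21 : allRange chkYFix 64 21504 1024 = true := by decide +kernel
theorem y_fix_ok_22 : allRange chkYFix 64 22528 1024 = true := by decide +kernel
theorem y_fix_ok_23 : allRange chkYFix 64 23552 1024 = true := by decide +kernel
theorem y_fix_ok_24 : allRange chkYFix 64 24576 1024 = true := by decide +kernel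
theorem y_fix_ok_25 : allRange chkYFix 64 25600 1024 = true := by decide +kernel
theorem y_fix_ok_26 : allRange chkYFix 64 26624 1024 = true := by decide +kernel
theorem y_fix_ok_27 : allRange chkYFix 64 27648 1024 = true := by decide +kernel
theorem y_fix_ok_28 : allRange chkYFix 64 28672 1024 = true := by decide +kernel
theorem y_fix_ok_29 : allRange chkYFix 64 29696 1024 = true := by decide +kernel
theorem y_fix_ok_30 : allRange chkYFix 64 30720 951 = true := by decide +kernel

theorem y_fix_ok : Big.Below chkYFix 31671 :=
  (Big.below_step y_fix_ok_30 rfl (Big.below_step y_fix_ok_29 rfl (Big.below_step y_fix_ok_28 rfl (Big.below_step y_fix_ok_27 rfl (Big.below_step y_fix_ok_26 rfl (Big.below_step y_fix_ok_25 rfl (Big.below_step y_fix_ok_24 rfl (Big.below_step y_fix_ok_23 rfl (Big.below_step y_fix_ok_22 rfl (Big.below_step y_fix_ok_21 rfl (Big.below_step y_fix_ok_20 rfl (Big.below_step y_fix_ok_19 rfl (Big.below_step y_fix_ok_18 rfl (Big.below_step y_fix_ok_17 rfl (Big.below_step y_fix_ok_16 rfl (Big.below_step y_fix_ok_15 rfl (Big.below_step y_fix_ok_14 rfl (Big.below_step y_fix_ok_13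 rfl (Big.below_step y_fix_ok_12 rfl (Big.below_step y_fix_ok_11 rfl (Big.below_step y_fix_ok_10 rfl (Big.below_step y_fix_ok_9 rfl (Big.below_step y_fix_ok_8 rfl (Big.below_step y_fix_ok_7 rfl (Big.below_step y_fix_ok_6 rfl (Big.below_step y_fix_ok_5 rfl (Big.below_step y_fix_ok_4 rfl (Big.below_step y_fix_ok_3 rfl (Big.below_step y_fix_ok_2 rfl (Big.below_step y_fix_ok_1 rfl (Big.below_step y_fix_ok_0 rfl (Big.below_zero _))))))))))))))))))))))))))))))))

theorem cover_ok_0 : allRange chkCover 64 0 585 = true := by decide +kernel
theorem cover_ok_1 : allRange chkCover 64 585 585 = true := by decide +kernel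
theorem cover_ok_2 : allRange chkCover 64 1170 585 = true := by decide +kernel
theorem cover_ok_3 : allRange chkCover 64 1755 585 = true := by decide +kernel
theorem cover_ok_4 : allRange chkCover 64 2340 585 = true := by decide +kernel
theorem cover_ok_5 : allRange chkCover 64 2925 585 = true := by decide +kernel

theorem cover_ok : Big.Below chkCover 3510 :=
  (Big.below_step cover_ok_5 rfl (Big.below_step cover_ok_4 rfl (Big.below_step cover_ok_3 rfl (Big.below_step cover_ok_2 rfl (Big.below_step cover_ok_1 rfl (Big.below_step cover_ok_0 rfl (Big.below_zero _)))))))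

theorem bad_ok_0 : allRange chkBad 64 0 135 = true := by decide +kernel
theorem bad_ok_1 : allRange chkBad 64 135 135 = true := by decide +kernel
theorem bad_ok_2 : allRange chkBad 64 270 135 = true := by decide +kernel
theorem bad_ok_3 : allRange chkBad 64 405 135 = true := by decide +kernel

theorem bad_ok : Big.Below chkBad 540 :=
  (Big.below_step bad_ok_3 rfl (Big.below_step bad_ok_2 rfl (Big.below_step bad_ok_1 rfl (Big.below_step bad_ok_0 rfl (Big.below_zero _)))))

end Cfsg.Agent.Fi23Out
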