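import Cfsg.Agent.Lib.Fi23Out.CheckWords
import Cfsg.Agent.Lib.Fi23Out.CheckBig
import Cfsg.Agent.Lib.Enum.Fi23Main

/-! The transpositions of Fi23 as points of the 31671-point action. -/

set_option autoImplicit false
set_option maxRecDepth 100000

namespace Cfsg.Agent.Fi23Out

open Cfsg.Agent.Enum

/-- The presented group. -/
abbrev G : Type := presFi23.Grp

/-- A generator. -/
noncomputable abbrev gn (x : ℕ) : G := presFi23.g x

/-- The product of a word. -/
noncomputable abbrev wp (w : List ℕ) : G := (w.map presFi23.g).prod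

instance : Finite G := Nat.finite_of_card_ne_zero (by rw [Fi23M.card_grp]; norm_num)

/-- The permutation representation. -/
noncomputable abbrev phi : G →* Equiv.Perm (Fin T.N) := Fi23M.rho

/-- The base point. -/
noncomputable abbrev z0 : Fin T.N := Fi23M.zero

theorem wp_append (u w : List ℕ) : wp (u ++ w) = wp u * wp w := by
  simp [wp, List.map_append, List.prod_append]

theorem wp_single (x : ℕ) : wp [x] = gn x := by simp [wp]

theorem wp_rev (w : List ℕ) : wp w.reverse = (wp w)⁻¹ := by
  rw [wp, List.map_reverse, Data.reverse_prod _ presFi23.g_mul_self]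

theorem phi_wp (w : List ℕ) (i : Fin T.N) : (phi (wp w) i : ℕ) = T.imgWord w.reverse i := by
  have h := Fi23M.rho_word w.reverse i
  rwa [List.map_reverse, List.reverse_reverse] at h

theorem wp_one {w : List ℕ} (h : isOneB w = true) : wp w = 1 := Fi23M.word_one w h

/-- The point with a given number. -/
noncomputable def pt (n : ℕ) : Fin T.N := if h : n < T.N then ⟨n, h⟩ else z0

theorem pt_val {n : ℕ} (h : n < T.N) : ((pt n : Fin T.N) : ℕ) = n := by simp [pt, h]

theorem N_eq : T.N = 31671 := rfl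

theorem f1_lt : f1 < T.N := by
  have h := pts_lt
  simp only [Bool.and_eq_true] at h
  exact Table.blt_lt h.1.1.1.1

theorem f2_lt : f2 < T.N := by
  have h := pts_lt
  simp only [Bool.and_eq_true] at h
  exact Table.blt_lt h.1.1.1.2

theorem a_lt : (11589 : ℕ) < T.N := by rw [N_eq]; norm_num

/-- The point of the first generator. -/
noncomputable abbrev pA : Fin T.N := pt 11589

/-- The transposition at the base point. -/
noncomputable def zG : G := wp zW

/-- The second transposition. -/
noncomputable def sG : G := wp sW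

/-- The third transposition. -/
noncomputable def tG : G := wp tW

/-- The element of order thirteen. -/
noncomputable def yG : G := wp yWord

/-- The element raising `y` to the fourth power. -/
noncomputable def nG : G := wp nW

theorem wp_conjA (u : List ℕ) : wp (conjA u) = wp u.reverse * gn 0 * (wp u.reverse)⁻¹ := by
  rw [conjA, wp_append, wp_append, wp_single, wp_rev, inv_inv]

theorem z_sq : zG * zG = 1 := by
  rw [zG, zW, wp_conjA]
  generalize wp (unpack 60 zPath).reverse = u
  calc u * gn 0 * u⁻¹ * (u * gn 0 * u⁻¹) = u * (gn 0 * gn 0) * u⁻¹ := by group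
    _ = 1 := by rw [presFi23.g_mul_self, mul_one, mul_inv_cancel]

theorem center_bot : ∀ g : G, (∀ h, g * h = h * g) → g = 1 := by
  intro g hg
  haveI : IsSimpleGroup G := Fi23M.isSimple
  rcases (Subgroup.center G).normal_of_characteristic.eq_bot_or_eq_top with h | h
  · exact (Subgroup.mem_bot).1 (h ▸ Subgroup.mem_center_iff.2 fun x => (hg x).symm)
  · exfalso
    have e : gn 1 * gn 0 = gn 0 * gn 1 :=
      (Subgroup.mem_center_iff.1 (h ▸ Subgroup.mem_top (gn 0)) (gn 1))
    have e1 : wp [1, 0, 1, 0] = 1 := by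
      show gn 1 * (gn 0 * (gn 1 * (gn 0 * 1))) = 1
      calc gn 1 * (gn 0 * (gn 1 * (gn 0 * 1))) = gn 1 * (gn 0 * gn 1) * gn 0 := by group
        _ = gn 1 * (gn 1 * gn 0) * gn 0 := by rw [e]
        _ = (gn 1 * gn 1) * (gn 0 * gn 0) := by group
        _ = 1 := by rw [presFi23.g_mul_self, presFi23.g_mul_self, one_mul]
    have e2 := congrArg (fun k => (phi k pA : ℕ)) e1
    simp only [map_one, Equiv.Perm.one_apply, phi_wp, pt_val a_lt] at e2
    exact Nat.ne_of_beq_eq_false gens_noncomm e2

theorem conj_inj {g h : G} (e : MulAut.conj g = MulAut.conj h) : g = h := by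
  have : h⁻¹ * g = 1 := center_bot _ fun x => by
    have e' := DFunLike.congr_fun e x
    rw [MulAut.conj_apply, MulAut.conj_apply] at e'
    calc h⁻¹ * g * x = h⁻¹ * (g * x * g⁻¹) * g := by group
      _ = x * (h⁻¹ * g) := by rw [e']; group
  exact (inv_mul_eq_one.1 this).symm

theorem comm_of_one {u v : G} (hu : u * u = 1) (h : u * v * u * v⁻¹ = 1) : u * v = v * u := by
  have := mul_inv_eq_one.1 h
  calc u * v = u * v * (u * u) := by rw [hu, mul_one]
    _ = (u * v * u) * u := by group
    _ = v * u := by rw [this]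

theorem sub_eq : Fi23M.sub = Subgroup.centralizer {zG} := by
  have hle : Fi23M.sub ≤ Subgroup.centralizer {zG} := by
    rw [Fi23M.sub, gensClosure, Subgroup.closure_le]
    rintro _ ⟨x, hx, rfl⟩
    have hx' : x ∈ ([0, 1, 2, 3, 4, 5, 6, 8, 9] : List ℕ) := hx
    have h := wp_one (List.all_eq_true.1 z_subs x hx')
    rw [wp_append, wp_append, wp_append, wp_single] at h
    rw [SetLike.mem_coe, Subgroup.mem_centralizer_singleton_iff]
    refine (comm_of_one z_sq ?_).symm
    rw [inv_eq_of_mul_eq_one_right (presFi23.g_mul_self x)]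
    exact h
  refine ((Fi23M.maximal _ hle).resolve_right ?_).symm
  intro htop
  have h1 : zG = 1 := center_bot _ fun k =>
    (Subgroup.mem_centralizer_singleton_iff.1 (htop ▸ Subgroup.mem_top k)).symm
  have hb := Fi23T.levelB_ok.base_lt
  have e := congrArg (fun k => (phi k ⟨_, hb⟩ : ℕ)) h1
  simp only [map_one, Equiv.Perm.one_apply, zG, phi_wp] at e
  rw [show zW.reverse = zW by simp [zW, conjA]] at e
  exact Nat.ne_of_beq_eq_false z_moves e

theorem fix_iff_comm (k : G) : phi k z0 = z0 ↔ k * zG = zG * k := by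
  rw [← Fi23M.action.mem_iff, sub_eq, Subgroup.mem_centralizer_singleton_iff]

theorem phi_inv_eq {g : G} {i j : Fin T.N} (h : phi g i = j) : phi g⁻¹ j = i := by
  rw [map_inv, Equiv.Perm.inv_eq_iff_eq, h]

/-- An element moving the base point to `i`. -/
noncomputable def toPt (i : Fin T.N) : G := (Fi23M.action.trans i).choose

theorem toPt_spec (i : Fin T.N) : phi (toPt i) z0 = i := (Fi23M.action.trans i).choose_spec

/-- The transposition of a point. -/
noncomputable def dd (i : Fin T.N) : G := toPt i * zG * (toPt i)⁻¹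

theorem dd_spec {g : G} {i : Fin T.N} (h : phi g z0 = i) : g * zG * g⁻¹ = dd i := by
  have hk : phi ((toPt i)⁻¹ * g) z0 = z0 := by
    rw [map_mul, Equiv.Perm.mul_apply, h]
    exact phi_inv_eq (toPt_spec i)
  have hc := (fix_iff_comm _).1 hk
  calc g * zG * g⁻¹ = toPt i * (((toPt i)⁻¹ * g) * zG) * g⁻¹ := by group
    _ = dd i := by rw [hc, dd]; group

theorem dd_z0 : dd z0 = zG := by
  have h := dd_spec (g := 1) (i := z0) (by rw [map_one]; rfl)
  rw [one_mul, inv_one, mul_one] at h
  exact h.symm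

theorem dd_conj (g : G) (i : Fin T.N) : g * dd i * g⁻¹ = dd (phi g i) := by
  rw [← dd_spec (g := g * toPt i) (i := phi g i) (by rw [map_mul, Equiv.Perm.mul_apply, toPt_spec]), dd]
  group

theorem dd_inj {i j : Fin T.N} (h : dd i = dd j) : i = j := by
  have hc : ((toPt i)⁻¹ * toPt j) * zG = zG * ((toPt i)⁻¹ * toPt j) := by
    calc (toPt i)⁻¹ * toPt j * zG = (toPt i)⁻¹ * dd j * toPt j := by rw [dd]; group
      _ = zG * ((toPt i)⁻¹ * toPt j) := by rw [← h, dd]; group
  have h2 := (fix_iff_comm _).2 hc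
  rw [map_mul, Equiv.Perm.mul_apply, toPt_spec, map_inv, Equiv.Perm.inv_eq_iff_eq, toPt_spec] at h2
  exact h2.symm

theorem comm_dd (g : G) (i : Fin T.N) : g * dd i = dd i * g ↔ phi g i = i := by
  constructor
  · intro h
    refine dd_inj ?_
    rw [← dd_conj, h, mul_inv_cancel_right]
  · intro h
    have e := dd_conj g i
    rw [h] at e
    conv_rhs => rw [← e, inv_mul_cancel_right]

theorem gn_zero : gn 0 = dd pA := by
  have hu : phi (wp (unpack 60 zPath).reverse) pA = z0 := Fin.ext (by
    rw [phi_wp, List.reverse_reverse, pt_val a_lt]; exact Table.beq_eq z_path)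
  have h := dd_conj (wp (unpack 60 zPath).reverse)⁻¹ z0
  rw [phi_inv_eq hu, dd_z0, zG, zW, wp_conjA] at h
  rw [← h]
  group

theorem conjA_dd (u : List ℕ) (q : Fin T.N) (h : T.imgWord u 11589 = (q : ℕ)) :
    wp (conjA u) = dd q := by
  rw [wp_conjA, gn_zero, dd_conj]
  refine congrArg dd (Fin.ext ?_)
  rw [phi_wp, List.reverse_reverse, pt_val a_lt, h]

theorem sG_eq : sG = dd (pt f1) :=
  conjA_dd _ _ (by rw [pt_val f1_lt]; exact Table.beq_eq s_path)

theorem tG_eq : tG = dd (pt f2) :=
  conjA_dd _ _ (by rw [pt_val f2_lt]; exact Table.beq_eq t_path)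

theorem dd_sq (i : Fin T.N) : dd i * dd i = 1 := by
  rw [dd]
  generalize toPt i = u
  calc u * zG * u⁻¹ * (u * zG * u⁻¹) = u * (zG * zG) * u⁻¹ := by group
    _ = 1 := by rw [z_sq, mul_one, mul_inv_cancel]

theorem s_sq : sG * sG = 1 := by rw [sG_eq]; exact dd_sq _

theorem t_sq : tG * tG = 1 := by rw [tG_eq]; exact dd_sq _

theorem phi_y (i : Fin T.N) : (phi yG i : ℕ) = yImg i := phi_wp _ _

theorem phi_y_pow (k : ℕ) (i : Fin T.N) : (phi (yG ^ k) i : ℕ) = yIter k i := by
  induction k with
  | zero => simp [yIter]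
  | succ k ih => rw [pow_succ', map_mul, Equiv.Perm.mul_apply, phi_y, ih]; rfl

theorem wp_yPow : ∀ k : ℕ, wp (yPowW k) = yG ^ k
  | 0 => by rw [yPowW, pow_zero]; rfl
  | k + 1 => by rw [yPowW, wp_append, wp_yPow k, pow_succ']; rfl

theorem y_pow13 : yG ^ 13 = 1 := by rw [← wp_yPow]; exact wp_one y_thirteen

theorem y_ne_one : yG ≠ 1 := by
  intro h
  have e := phi_y pA
  rw [h, map_one, Equiv.Perm.one_apply, pt_val a_lt] at e
  exact Nat.ne_of_beq_eq_false y_moves e.symm

theorem order_y : orderOf yG = 13 :=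
  haveI : Fact (Nat.Prime 13) := ⟨by norm_num⟩
  orderOf_eq_prime y_pow13 y_ne_one

theorem y_comm_word {v : List ℕ} (hv : v ∈ ([zW, sW, tW] : List (List ℕ))) (hsq : wp v * wp v = 1) :
    wp v * yG = yG * wp v := by
  have h := wp_one (List.all_eq_true.1 y_comm v hv)
  rw [wp_append, wp_append, wp_append, wp_rev] at h
  exact comm_of_one hsq h

theorem z_comm_y : zG * yG = yG * zG := y_comm_word (by simp) z_sq

theorem s_comm_y : sG * yG = yG * sG := y_comm_word (by simp) s_sq

theorem t_comm_y : tG * yG = yG * tG := y_comm_word (by simp) t_sq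

theorem y_fix_set {i : Fin T.N} (h : phi yG i = i) : i = z0 ∨ i = pt f1 ∨ i = pt f2 := by
  have e := y_fix_ok i i.2
  have hb : Nat.beq (yImg i) i = true := by rw [← phi_y, h]; exact Nat.beq_refl _
  rw [chkYFix, hb, Bool.not_true, Bool.false_or, Bool.or_eq_true, Bool.or_eq_true] at e
  rcases e with (e | e) | e
  · exact Or.inl (Fin.ext (Table.beq_eq e))
  · exact Or.inr (Or.inl (Fin.ext (by rw [pt_val f1_lt]; exact Table.beq_eq e)))
  · exact Or.inr (Or.inr (Fin.ext (by rw [pt_val f2_lt]; exact Table.beq_eq e)))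

theorem phi_z_f1 : phi zG (pt f1) = pt f2 := Fin.ext (by
  rw [zG, phi_wp, pt_val f1_lt, pt_val f2_lt]; exact Table.beq_eq z_f1)

theorem phi_t_z0 : phi tG z0 = pt f1 := Fin.ext (by
  rw [tG, phi_wp, pt_val f1_lt]; exact Table.beq_eq t_zero)

theorem phi_s_z0 : phi sG z0 = pt f2 := Fin.ext (by
  rw [sG, phi_wp, pt_val f2_lt]; exact Table.beq_eq s_zero)

theorem f1_ne : pt f1 ≠ z0 := by
  intro h
  have e := congrArg Fin.val h
  rw [pt_val f1_lt] at e
  have hp := pts_lt
  simp only [Bool.and_eq_true, Bool.not_eq_true'] at hp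
  exact Nat.ne_of_beq_eq_false hp.1.1.2 e

theorem f2_ne : pt f2 ≠ z0 := by
  intro h
  have e := congrArg Fin.val h
  rw [pt_val f2_lt] at e
  have hp := pts_lt
  simp only [Bool.and_eq_true, Bool.not_eq_true'] at hp
  exact Nat.ne_of_beq_eq_false hp.1.2 e

theorem f12_ne : pt f1 ≠ pt f2 := by
  intro h
  have e := congrArg Fin.val h
  rw [pt_val f1_lt, pt_val f2_lt] at e
  have hp := pts_lt
  simp only [Bool.and_eq_true, Bool.not_eq_true'] at hp
  exact Nat.ne_of_beq_eq_false hp.2 e

theorem zsz : zG * sG * zG⁻¹ = tG := by rw [sG_eq, dd_conj, phi_z_f1, tG_eq]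

theorem sts_eq : sG * tG * sG⁻¹ = zG := by
  have h := wp_one sts
  rw [wp_append, wp_append, wp_append] at h
  have e := eq_inv_of_mul_eq_one_left h
  rw [inv_eq_of_mul_eq_one_right s_sq]
  exact e.trans (inv_eq_of_mul_eq_one_right z_sq)

theorem tst_eq : tG * sG * tG⁻¹ = zG := by
  have h := wp_one tst
  rw [wp_append, wp_append, wp_append] at h
  have e := eq_inv_of_mul_eq_one_left h
  rw [inv_eq_of_mul_eq_one_right t_sq]
  exact e.trans (inv_eq_of_mul_eq_one_right z_sq)

end Cfsg.Agent.Fi23Out
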