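import Cfsg.Agent.Lib.Fi23Out.Data
import Cfsg.Agent.Lib.Enum.Fi23Levels
import Cfsg.Agent.Lib.Enum.Table

/-! Kernel checks on the 31671-point table of Fi23: definitions. -/

set_option autoImplicit false
set_option maxRecDepth 100000

namespace Cfsg.Agent.Fi23Out

open Cfsg.Agent.Enum

/-- The table. -/
noncomputable abbrev T : Big.Perms := Fi23T.table

/-- The base points decide triviality. -/
noncomputable def isOneB (w : List ℕ) : Bool :=
  (Fi23T.levels.map Big.Level.base).all (fun p => Nat.beq (T.imgWord w p) p)

/-- Unpack a word. -/
def unpack : ℕ → ℕ → List ℕ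
  | 0, _ => []
  | fuel + 1, c => bif Nat.beq c 0 then [] else (c % 16 - 1) :: unpack fuel (c / 16)

/-- The word of the transposition at the end of a path from the point of the first generator. -/
def conjA (u : List ℕ) : List ℕ := u.reverse ++ [0] ++ u

/-- The transposition at the base point. -/
def zW : List ℕ := conjA (unpack 60 zPath)

/-- The second transposition. -/
def sW : List ℕ := conjA (unpack 60 sPath)

/-- The third transposition. -/
def tW : List ℕ := conjA (unpack 60 tPath)

/-- The element raising `y` to the fourth power. -/
def nW : List ℕ := unpack 1700 nPack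

/-- A power of `y`. -/
def yPowW : ℕ → List ℕ
  | 0 => []
  | k + 1 => yWord ++ yPowW k

/-- The five letters. -/
def letterW (dW yW : List ℕ) : ℕ → List ℕ
  | 0 => zW
  | 1 => sW
  | 2 => dW
  | 3 => yW
  | _ => yW.reverse

/-- Substitute the letters. -/
def subst (dW yW : List ℕ) (W : List ℕ) : List ℕ := (W.map (letterW dW yW)).flatten

/-- The image of a point under `y`. -/
noncomputable def yImg (i : ℕ) : ℕ := T.imgWord yWord.reverse i

/-- Iterate. -/
noncomputable def yIter : ℕ → ℕ → ℕ
  | 0, i => i
  | k + 1, i => yImg (yIter k i)

/-- Only three points are fixed by `y`. -/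
noncomputable def chkYFix (i : ℕ) : Bool :=
  !(Nat.beq (yImg i) i) || Nat.beq i 0 || Nat.beq i f1 || Nat.beq i f2

/-- The path to a representative. -/
def repPath (r : ℕ) : List ℕ := unpack 60 (repPaths.getD r 0)

/-- A point of the suborbit is a translate of a representative. -/
noncomputable def chkCover (i : ℕ) : Bool :=
  let e := field 16 covData i
  Nat.blt (e / 16) 270 &&
    Nat.beq (yIter (e % 16) (T.imgWord (repPath (e / 16)) 11589)) (Fi23T.level1.pts i)

/-- A candidate fails a relation. -/
noncomputable def chkBad (i : ℕ) : Bool :=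
  let e := field 24 certData i
  Nat.beq i 0 ||
    (Nat.blt (e % 65536) 31671 &&
      !(Nat.beq (T.imgWord (subst (conjA (repPath (i % 270))) (yPowW (i / 270 + 1))
        (tests.getD (e / 65536) [])).reverse (e % 65536)) (e % 65536)))

end Cfsg.Agent.Fi23Out
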