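import Cfsg.Agent.Lib.Fi23Out.Check

/-! Kernel checks: identities between words. -/

set_option autoImplicit false
set_option maxRecDepth 100000
set_option Elab.async false

namespace Cfsg.Agent.Fi23Out

open Cfsg.Agent.Enum

theorem z_path : Nat.beq (T.imgWord (unpack 60 zPath) 11589) 0 = true := by decide +kernel

theorem s_path : Nat.beq (T.imgWord (unpack 60 sPath) 11589) f1 = true := by decide +kernel

theorem t_path : Nat.beq (T.imgWord (unpack 60 tPath) 11589) f2 = true := by decide +kernel

theorem rep_zero : repPath 0 = [] := by decide +kernel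

theorem pts_lt : (Nat.blt f1 31671 && Nat.blt f2 31671 && !(Nat.beq f1 0) && !(Nat.beq f2 0) &&
    !(Nat.beq f1 f2)) = true := by decide +kernel

theorem z_subs : ([0, 1, 2, 3, 4, 5, 6, 8, 9] : List ℕ).all
    (fun x => isOneB (zW ++ [x] ++ zW ++ [x])) = true := by decide +kernel

theorem y_comm : ([zW, sW, tW] : List (List ℕ)).all
    (fun v => isOneB (v ++ yWord ++ v ++ yWord.reverse)) = true := by decide +kernel

theorem y_thirteen : isOneB (yPowW 13) = true := by decide +kernel

theorem y_moves : Nat.beq (yImg 11589) 11589 = false := by decide +kernel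

theorem z_moves : Nat.beq (T.imgWord zW Fi23T.levelB.base) Fi23T.levelB.base = false := by decide +kernel

theorem z_fix_a : Nat.beq (T.imgWord zW.reverse 11589) 11589 = true := by decide +kernel

theorem sts : isOneB (sW ++ tW ++ sW ++ zW) = true := by decide +kernel

theorem tst : isOneB (tW ++ sW ++ tW ++ zW) = true := by decide +kernel

theorem z_f1 : Nat.beq (T.imgWord zW.reverse f1) f2 = true := by decide +kernel

theorem t_zero : Nat.beq (T.imgWord tW.reverse 0) f1 = true := by decide +kernel

theorem s_zero : Nat.beq (T.imgWord sW.reverse 0) f2 = true := by decide +kernel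

theorem six : ([[], zW, tW, tW ++ zW, sW, sW ++ zW] : List (List ℕ)).all
    (fun v => isOneB (v ++ v ++ v ++ v ++ v ++ v)) = true := by decide +kernel

theorem n_z : isOneB (nW ++ zW ++ nW.reverse ++ zW) = true := by decide +kernel

theorem n_f1 : Nat.beq (T.imgWord nW.reverse f1) f1 = true := by decide +kernel

theorem n_y : isOneB (nW ++ yWord ++ nW.reverse ++ (yPowW 4).reverse) = true := by decide +kernel

theorem tests_base : tests.all (fun W => isOneB (subst [0] yWord W)) = true := by decide +kernel

theorem gens_expr : (List.range 10).all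
    (fun x => isOneB (subst [0] yWord (genExpr.getD x []) ++ [x])) = true := by decide +kernel

theorem gens_noncomm : Nat.beq (T.imgWord [0, 1, 0, 1] 11589) 11589 = false := by decide +kernel

end Cfsg.Agent.Fi23Out
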