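import Cfsg.Agent.Lib.Fi23Out.Rigid
import Cfsg.Prelude.Def_KGroupFacts

/-! The outer automorphism group of Fi23 is trivial. -/

set_option autoImplicit false
set_option maxRecDepth 100000

namespace Cfsg.Agent.Fi23Out

open Cfsg.Agent.Enum

theorem conj_rigid {g : G} (hy : g * yG = yG * g) (h0 : phi g z0 = z0)
    (h1 : phi g (pt f1) = pt f1) : ∃ k < 13, g = yG ^ k := by
  obtain ⟨-, k, hk, h⟩ := rigid (MulAut.conj g) 1 (Or.inl rfl)
    (conj_fix_of_comm ((fix_iff_comm g).1 h0))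
    (conj_fix_of_comm (by rw [sG_eq]; exact (comm_dd g _).2 h1))
    (by rw [MulAut.conj_apply, pow_one]; exact conj_fix_of_comm hy)
  exact ⟨k, hk, conj_inj h⟩

theorem fixed_moves {g : G} (hy : g * yG = yG * g) {i : Fin T.N} (hi : phi yG i = i) :
    phi yG (phi g i) = phi g i := by
  rw [← Equiv.Perm.mul_apply, ← map_mul, ← hy, map_mul, Equiv.Perm.mul_apply, hi]

theorem y_fix_dd {i : Fin T.N} (h : dd i * yG = yG * dd i) : phi yG i = i :=
  (comm_dd _ _).1 h.symm

theorem y_fix_z0 : phi yG z0 = z0 := (fix_iff_comm _).2 z_comm_y.symm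

theorem y_fix_f1 : phi yG (pt f1) = pt f1 := y_fix_dd (by rw [← sG_eq]; exact s_comm_y)

/-- The stabiliser of a transposition in the centraliser of `y`. -/
theorem cent_z0 {g : G} (hy : g * yG = yG * g) (h0 : phi g z0 = z0) :
    ∃ k < 13, g = yG ^ k ∨ g = zG * yG ^ k := by
  rcases y_fix_set (fixed_moves hy y_fix_f1) with h | h | h
  · exact absurd ((phi g).injective (h.trans h0.symm)) f1_ne
  · obtain ⟨k, hk, e⟩ := conj_rigid hy h0 h
    exact ⟨k, hk, Or.inl e⟩
  · obtain ⟨k, hk, e⟩ := conj_rigid (g := zG⁻¹ * g)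
      (by rw [mul_assoc, hy, ← mul_assoc, (show Commute zG yG from z_comm_y).inv_left.eq, mul_assoc])
      (by rw [map_mul, Equiv.Perm.mul_apply, h0]; exact phi_inv_eq ((fix_iff_comm _).2 rfl))
      (by rw [map_mul, Equiv.Perm.mul_apply, h]; exact phi_inv_eq phi_z_f1)
    exact ⟨k, hk, Or.inr (by rw [← e, mul_inv_cancel_left])⟩

/-- The six elements. -/
theorem centralizer_y {g : G} (hy : g * yG = yG * g) :
    ∃ c ∈ ([[], zW, tW, tW ++ zW, sW, sW ++ zW] : List (List ℕ)), ∃ k < 13, g = wp c * yG ^ k := by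
  rcases y_fix_set (fixed_moves hy y_fix_z0) with h | h | h
  · obtain ⟨k, hk, e | e⟩ := cent_z0 hy h
    · exact ⟨[], by simp, k, hk, e.trans (one_mul _).symm⟩
    · exact ⟨zW, by simp, k, hk, e⟩
  · have hc : (tG⁻¹ * g) * yG = yG * (tG⁻¹ * g) := by
      rw [mul_assoc, hy, ← mul_assoc, (show Commute tG yG from t_comm_y).inv_left.eq, mul_assoc]
    obtain ⟨k, hk, e | e⟩ := cent_z0 hc (by
      rw [map_mul, Equiv.Perm.mul_apply, h]; exact phi_inv_eq phi_t_z0)
    · exact ⟨tW, by simp, k, hk, inv_mul_eq_iff_eq_mul.1 e⟩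
    · exact ⟨tW ++ zW, by simp, k, hk, by
        rw [wp_append, inv_mul_eq_iff_eq_mul.1 e, mul_assoc]; rfl⟩
  · have hc : (sG⁻¹ * g) * yG = yG * (sG⁻¹ * g) := by
      rw [mul_assoc, hy, ← mul_assoc, (show Commute sG yG from s_comm_y).inv_left.eq, mul_assoc]
    obtain ⟨k, hk, e | e⟩ := cent_z0 hc (by
      rw [map_mul, Equiv.Perm.mul_apply, h]; exact phi_inv_eq phi_s_z0)
    · exact ⟨sW, by simp, k, hk, inv_mul_eq_iff_eq_mul.1 e⟩
    · exact ⟨sW ++ zW, by simp, k, hk, by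
        rw [wp_append, inv_mul_eq_iff_eq_mul.1 e, mul_assoc]; rfl⟩

theorem wp_comm_y {c : List ℕ}
    (hc : c ∈ ([[], zW, tW, tW ++ zW, sW, sW ++ zW] : List (List ℕ))) : Commute (wp c) yG := by
  have z' : Commute (wp zW) yG := z_comm_y
  have s' : Commute (wp sW) yG := s_comm_y
  have t' : Commute (wp tW) yG := t_comm_y
  fin_cases hc
  · exact Commute.one_left yG
  · exact z'
  · exact t'
  · show Commute (wp (tW ++ zW)) yG
    rw [wp_append]; exact t'.mul_left z'
  · exact s'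
  · show Commute (wp (sW ++ zW)) yG
    rw [wp_append]; exact s'.mul_left z'

theorem involution_cases {g : G} (hy : g * yG = yG * g) (hg : g * g = 1) (hne : g ≠ 1) :
    g = zG ∨ g = sG ∨ g = tG := by
  obtain ⟨c, hc, k, hk, rfl⟩ := centralizer_y hy
  have hcy := wp_comm_y hc
  have hk0 : k = 0 := by
    have h6 : (wp c * yG ^ k) ^ 6 = 1 := by
      rw [show (6 : ℕ) = 2 * 3 from rfl, pow_mul, pow_two, hg, one_pow]
    have c6 : (wp c) ^ 6 = 1 := by
      have := wp_one (List.all_eq_true.1 six c hc)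
      simp only [wp_append] at this
      simpa [pow_succ, mul_assoc] using this
    rw [(hcy.pow_right k).mul_pow, c6, one_mul, ← pow_mul] at h6
    have hd := orderOf_dvd_of_pow_eq_one h6
    rw [order_y] at hd
    omega
  subst hk0
  rw [pow_zero, mul_one] at hg hne ⊢
  have bad : ∀ v : G, v * v = 1 → v * zG * v⁻¹ ≠ zG → (v * zG) * (v * zG) ≠ 1 := by
    intro v hv hvz h
    refine hvz ?_
    rw [inv_eq_of_mul_eq_one_right hv]
    have := mul_eq_one_iff_eq_inv.1 (show (v * zG * v) * zG = 1 by rw [← h]; group)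
    exact this.trans (inv_eq_of_mul_eq_one_right z_sq)
  have ht : tG * zG * tG⁻¹ ≠ zG := by
    rw [← dd_z0, dd_conj, phi_t_z0]; exact fun e => f1_ne (dd_inj e)
  have hs : sG * zG * sG⁻¹ ≠ zG := by
    rw [← dd_z0, dd_conj, phi_s_z0]; exact fun e => f2_ne (dd_inj e)
  fin_cases hc
  · exact absurd rfl hne
  · exact Or.inl rfl
  · exact Or.inr (Or.inr rfl)
  · rw [wp_append] at hg; exact absurd hg (bad _ t_sq ht)
  · exact Or.inr (Or.inl rfl)
  · rw [wp_append] at hg; exact absurd hg (bad _ s_sq hs)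

theorem n_comm_z : nG * zG = zG * nG := by
  have h := wp_one n_z
  rw [wp_append, wp_append, wp_append, wp_rev] at h
  have e : nG * zG * nG⁻¹ = zG :=
    (eq_inv_of_mul_eq_one_left h).trans (inv_eq_of_mul_eq_one_right z_sq)
  conv_rhs => rw [← e, inv_mul_cancel_right]

theorem n_comm_s : nG * sG = sG * nG := by
  rw [sG_eq]
  refine (comm_dd _ _).2 (Fin.ext ?_)
  rw [nG, phi_wp, pt_val f1_lt]
  exact Table.beq_eq n_f1

theorem n_conj_y : nG * yG * nG⁻¹ = yG ^ 4 := by
  have h := wp_one n_y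
  rw [wp_append, wp_append, wp_append, wp_rev, wp_rev, wp_yPow] at h
  exact mul_inv_eq_one.1 h

theorem n_pow_conj_y : ∀ k : ℕ, nG ^ k * yG * (nG ^ k)⁻¹ = yG ^ (4 ^ k)
  | 0 => by simp
  | k + 1 => by
    calc nG ^ (k + 1) * yG * (nG ^ (k + 1))⁻¹ = nG * (nG ^ k * yG * (nG ^ k)⁻¹) * nG⁻¹ := by
          rw [pow_succ']; group
      _ = (nG * yG * nG⁻¹) ^ (4 ^ k) := by rw [n_pow_conj_y k, conj_pow]
      _ = yG ^ (4 ^ (k + 1)) := by rw [n_conj_y, ← pow_mul, pow_succ']

theorem inner_conj (g : G) : MulAut.conj g ∈ Cfsg.Inn G := ⟨g, rfl⟩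

theorem inner_of_mul {α : MulAut G} {g : G} (h : MulAut.conj g * α ∈ Cfsg.Inn G) :
    α ∈ Cfsg.Inn G := by
  have := Subgroup.mul_mem _ (Subgroup.inv_mem _ (inner_conj g)) h
  rwa [inv_mul_cancel_left] at this

/-- Normalised automorphisms are inner. -/
theorem inner_pow (α : MulAut G) (j : ℕ) (hj : j % 13 ≠ 0) (hz : α zG = zG) (hs : α sG = sG)
    (hy : α yG = yG ^ j) : α ∈ Cfsg.Inn G := by
  have hex : ∀ r < 13, r ≠ 0 → ∃ k < 6, r * 4 ^ k % 13 = 1 ∨ r * 4 ^ k % 13 = 2 := by decide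
  obtain ⟨k, -, hm⟩ := hex _ (Nat.mod_lt j (by norm_num)) hj
  refine inner_of_mul (g := nG ^ k) ?_
  set β := MulAut.conj (nG ^ k) * α with hβ
  have bz : β zG = zG := by
    rw [hβ, MulAut.mul_apply, hz, MulAut.conj_apply]
    exact conj_fix_of_comm ((show Commute nG zG from n_comm_z).pow_left k).eq
  have bs : β sG = sG := by
    rw [hβ, MulAut.mul_apply, hs, MulAut.conj_apply]
    exact conj_fix_of_comm ((show Commute nG sG from n_comm_s).pow_left k).eq
  have by' : β yG = yG ^ (j % 13 * 4 ^ k % 13) := by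
    rw [hβ, MulAut.mul_apply, hy, MulAut.conj_apply, ← conj_pow, n_pow_conj_y, ← pow_mul,
      ← pow_mod_orderOf yG, order_y]
    congr 1
    rw [Nat.mul_comm, Nat.mod_mul_mod]
  obtain ⟨-, i, -, h⟩ := rigid β _ hm bz bs by'
  rw [h]; exact inner_conj _

theorem inner_z (α : MulAut G) (j : ℕ) (hj : j % 13 ≠ 0) (hz : α zG = zG)
    (hy : α yG = yG ^ j) : α ∈ Cfsg.Inn G := by
  have hq : α sG = dd (phi (α (toPt (pt f1))) z0) := by
    rw [sG_eq, dd, map_mul, map_mul, map_inv, hz]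
    exact dd_spec rfl
  have hcy : α sG * yG = yG * α sG := by
    obtain ⟨i, hi⟩ : ∃ i : ℕ, yG ^ (j * i) = yG := by
      have hex : ∀ r < 13, r ≠ 0 → ∃ i < 13, r * i % 13 = 1 := by decide
      obtain ⟨i, -, hi⟩ := hex _ (Nat.mod_lt j (by norm_num)) hj
      refine ⟨i, ?_⟩
      rw [← pow_mod_orderOf, order_y, Nat.mul_mod, ← Nat.mod_mod j 13, ← Nat.mul_mod, hi, pow_one]
    have hc : Commute (α sG) (α yG) := Commute.map (show Commute sG yG from s_comm_y) α
    rw [hy] at hc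
    have := hc.pow_right i
    rw [← pow_mul, hi] at this
    exact this.eq
  rw [hq] at hcy
  rcases y_fix_set (y_fix_dd hcy) with h | h | h
  · exfalso
    rw [h, dd_z0, ← hz] at hq
    have := α.injective hq
    rw [sG_eq, ← dd_z0] at this
    exact f1_ne (dd_inj this)
  · exact inner_pow α j hj hz (by rw [hq, h, sG_eq]) hy
  · refine inner_of_mul (g := zG⁻¹) (inner_pow _ j hj ?_ ?_ ?_)
    · rw [MulAut.mul_apply, hz, MulAut.conj_apply]; group
    · rw [MulAut.mul_apply, hq, h, ← tG_eq, ← zsz, MulAut.conj_apply]; group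
    · rw [MulAut.mul_apply, hy, MulAut.conj_apply]
      exact conj_fix_of_comm ((show Commute zG yG from z_comm_y).inv_left.pow_right j).eq

/-- The subgroup of order thirteen. -/
noncomputable abbrev Py : Subgroup G := Subgroup.zpowers yG

theorem card_Py : Nat.card Py = 13 := by rw [Nat.card_zpowers, order_y]

theorem sylow_card (Q : Sylow 13 G) : Nat.card (Q : Subgroup G) = 13 := by
  haveI : Fact (Nat.Prime 13) := ⟨by norm_num⟩
  rw [Q.card_eq_multiplicity, Fi23M.card_grp]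
  obtain ⟨n, hn⟩ : ∃ n, n = (4089470473293004800 : ℕ).factorization 13 := ⟨_, rfl⟩
  have h1 : 13 ^ n ∣ 4089470473293004800 := hn ▸ Nat.ordProj_dvd _ _
  have h2 : 1 ≤ n := hn ▸ (Nat.Prime.dvd_iff_one_le_factorization (by norm_num) (by norm_num)).1
    (by norm_num)
  rw [← hn]
  rcases (show n = 1 ∨ 2 ≤ n by omega) with h | h
  · rw [h, pow_one]
  · exact absurd ((pow_dvd_pow 13 h).trans h1) (by norm_num)

theorem all_inner (α : MulAut G) : α ∈ Cfsg.Inn G := by
  haveI : Fact (Nat.Prime 13) := ⟨by norm_num⟩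
  obtain ⟨Q, hQ⟩ : ∃ Q : Sylow 13 G, (Q : Subgroup G) = Py := by
    have hp : IsPGroup 13 Py := IsPGroup.of_card (n := 1) (by rw [card_Py, pow_one])
    obtain ⟨Q, hQ⟩ := hp.exists_le_sylow
    exact ⟨Q, (Subgroup.eq_of_le_of_card_ge hQ (by rw [sylow_card, card_Py])).symm⟩
  have hp : IsPGroup 13 (Py.map α.toMonoidHom) := by
    refine IsPGroup.of_card (n := 1) ?_
    rw [← Nat.card_congr (Py.equivMapOfInjective _ α.injective).toEquiv, card_Py, pow_one]
  obtain ⟨R, hR⟩ := hp.exists_le_sylow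
  have hR' : Py.map α.toMonoidHom = (R : Subgroup G) :=
    Subgroup.eq_of_le_of_card_ge hR (by
      rw [sylow_card, ← Nat.card_congr (Py.equivMapOfInjective _ α.injective).toEquiv, card_Py])
  obtain ⟨g, hg⟩ := MulAction.exists_smul_eq G R Q
  refine inner_of_mul (g := g) ?_
  set α₁ : MulAut G := MulAut.conj g * α with hα₁
  have hmem : α₁ yG ∈ Py := by
    rw [← hQ, ← hg, Sylow.coe_subgroup_smul, ← hR']
    exact Subgroup.smul_mem_pointwise_smul _ (MulAut.conj g) _
      (Subgroup.mem_map_of_mem _ (Subgroup.mem_zpowers _))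
  have hmem' : α₁ yG ∈ Submonoid.powers yG := by rwa [mem_powers_iff_mem_zpowers]
  obtain ⟨j, hj⟩ := hmem'
  have hj' : yG ^ j = α₁ yG := hj
  have hj0 : j % 13 ≠ 0 := by
    intro h
    have : α₁ yG = 1 := by rw [← hj', ← pow_mod_orderOf, order_y, h, pow_zero]
    exact y_ne_one (α₁.injective (this.trans (map_one α₁).symm))
  have hcy : α₁ zG * yG = yG * α₁ zG := by
    have hex : ∀ r < 13, r ≠ 0 → ∃ i < 13, r * i % 13 = 1 := by decide
    obtain ⟨i, -, hi⟩ := hex _ (Nat.mod_lt j (by norm_num)) hj0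
    have hc : Commute (α₁ zG) (α₁ yG) := Commute.map (show Commute zG yG from z_comm_y) α₁
    rw [← hj'] at hc
    have := hc.pow_right i
    rw [← pow_mul, ← pow_mod_orderOf, order_y, Nat.mul_mod, ← Nat.mod_mod j 13, ← Nat.mul_mod, hi,
      pow_one] at this
    exact this.eq
  rcases involution_cases hcy (by rw [← map_mul, z_sq, map_one]) (fun e => by
      have h1 : zG = 1 := α₁.injective (e.trans (map_one α₁).symm)
      have h2 := phi_z_f1
      rw [h1, map_one, Equiv.Perm.one_apply] at h2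
      exact f12_ne h2) with h | h | h
  · exact inner_z α₁ j hj0 h hj'.symm
  · refine inner_of_mul (g := tG) (inner_z _ j hj0 ?_ ?_)
    · rw [MulAut.mul_apply, h, MulAut.conj_apply, tst_eq]
    · rw [MulAut.mul_apply, ← hj', MulAut.conj_apply]
      exact conj_fix_of_comm ((show Commute tG yG from t_comm_y).pow_right j).eq
  · refine inner_of_mul (g := sG) (inner_z _ j hj0 ?_ ?_)
    · rw [MulAut.mul_apply, h, MulAut.conj_apply, sts_eq]
    · rw [MulAut.mul_apply, ← hj', MulAut.conj_apply]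
      exact conj_fix_of_comm ((show Commute sG yG from s_comm_y).pow_right j).eq

theorem out_card : Nat.card (Cfsg.Out G) = 1 := by
  rw [Nat.card_eq_one_iff_unique]
  refine ⟨⟨fun a b => ?_⟩, ⟨QuotientGroup.mk 1⟩⟩
  obtain ⟨x, rfl⟩ := QuotientGroup.mk_surjective a
  obtain ⟨y, rfl⟩ := QuotientGroup.mk_surjective b
  rw [QuotientGroup.eq]
  exact all_inner _

end Cfsg.Agent.Fi23Out
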