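import Cfsg.Agent.Lib.Fi23Out.Base

/-! An automorphism of Fi23 fixing two non-commuting transpositions and taking an element of order
thirteen commuting with them to itself or its square is conjugation by a power of that element. -/

set_option autoImplicit false
set_option maxRecDepth 100000

namespace Cfsg.Agent.Fi23Out

open Cfsg.Agent.Enum

theorem map_subst (β : MulAut G) {dW yW dW' yW' : List ℕ} (hz : β zG = zG) (hs : β sG = sG)
    (hd : β (wp dW) = wp dW') (hy : β (wp yW) = wp yW') :
    ∀ W : List ℕ, β (wp (subst dW yW W)) = wp (subst dW' yW' W)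
  | [] => map_one β
  | c :: W => by
    have e : ∀ d y : List ℕ, subst d y (c :: W) = letterW d y c ++ subst d y W := fun _ _ => rfl
    rw [e, e, wp_append, wp_append, map_mul, map_subst β hz hs hd hy W]
    congr 1
    match c with
    | 0 => exact hz
    | 1 => exact hs
    | 2 => exact hd
    | 3 => exact hy
    | _ + 4 =>
      show β (wp yW.reverse) = wp yW'.reverse
      rw [wp_rev, wp_rev, map_inv, hy]

theorem gens_fixed {β : MulAut G} (hz : β zG = zG) (hs : β sG = sG) (hd : β (gn 0) = gn 0)
    (hy : β yG = yG) : β = 1 := by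
  have hh : β.toMonoidHom = MonoidHom.id G := MonoidHom.eq_of_eqOn_dense presFi23.g_gen (by
    rintro _ ⟨x, rfl⟩
    show β (gn x) = gn x
    rcases Nat.lt_or_ge x 10 with hx | hx
    · have h := wp_one (List.all_eq_true.1 gens_expr x (List.mem_range.2 hx))
      rw [wp_append, wp_single] at h
      have e : gn x = wp (subst [0] yWord (genExpr.getD x [])) :=
        ((inv_eq_of_mul_eq_one_right (presFi23.g_mul_self x)).symm.trans
          (eq_inv_of_mul_eq_one_left h).symm)
      rw [e, map_subst β hz hs (by rw [wp_single]; exact hd) hy]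
    · show β (presFi23.g x) = presFi23.g x
      rw [presFi23.g_junk x hx, map_one])
  exact MulEquiv.ext fun g => DFunLike.congr_fun hh g

theorem d_comm_z : zG * gn 0 = gn 0 * zG := by
  rw [gn_zero]
  refine (comm_dd _ _).2 (Fin.ext ?_)
  rw [zG, phi_wp, pt_val a_lt]
  exact Table.beq_eq z_fix_a

theorem suborbit_one {q : Fin T.N} (hne : q ≠ z0) (h : phi zG q = q) :
    q ∈ Fi23M.cls 1 := by
  rcases Fi23M.cls_spec.2.2 q with h' | h' | h'
  · exact absurd h' hne
  · exact h'
  · exfalso
    have hb : (⟨_, Fi23T.levelB_ok.base_lt⟩ : Fin T.N) ∈ Fi23M.cls 2 := Fi23M.labB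
    obtain ⟨k, hk, e⟩ := Fi23M.orbitB q h' _ hb
    have hkz : k * zG = zG * k := by
      rw [sub_eq, Subgroup.mem_centralizer_singleton_iff] at hk; exact hk
    have e2 : phi zG (phi k q) = phi k q := by
      rw [← Equiv.Perm.mul_apply, ← map_mul, ← hkz, map_mul, Equiv.Perm.mul_apply, h]
    rw [e] at e2
    have e3 := congrArg Fin.val e2
    rw [zG, phi_wp, show zW.reverse = zW by simp [zW, conjA]] at e3
    exact Nat.ne_of_beq_eq_false z_moves e3

theorem level1_surj {q : Fin T.N} (hq : q ∈ Fi23M.cls 1) :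
    ∃ j < 3510, Fi23T.level1.pts j = (q : ℕ) := by
  classical
  choose a ha he hm using Fi23M.level_sub Fi23T.level1_ok rfl Fi23M.labA
  let F : Fin Fi23T.level1.n → Fi23M.cls 1 := fun j => ⟨_, hm j j.2⟩
  have hF : Function.Injective F := fun i j h => Fin.ext (Fi23T.level1_ok.pts_inj i.2 j.2 (by
    rw [← he i i.2, ← he j j.2]
    exact congrArg (fun z : Fi23M.cls 1 => ((z : Fin T.N) : ℕ)) h))
  have hb := (Nat.bijective_iff_injective_and_card F).mpr
    ⟨hF, by rw [Nat.card_fin, Nat.card_coe_set_eq, Fi23M.cls_spec.1]; rfl⟩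
  obtain ⟨j, hj⟩ := hb.2 ⟨q, hq⟩
  refine ⟨j, j.2, ?_⟩
  rw [← he j j.2]
  exact congrArg (fun z : Fi23M.cls 1 => ((z : Fin T.N) : ℕ)) hj

theorem conj_symm_fix {g x y : G} (h : g * y * g⁻¹ = x) : (MulAut.conj g)⁻¹ x = y :=
  (MulEquiv.symm_apply_eq _).2 h.symm

theorem conj_fix_of_comm {g x : G} (h : g * x = x * g) : g * x * g⁻¹ = x := by
  rw [h, mul_inv_cancel_right]

theorem z_comm_pow (k : ℕ) : yG ^ k * zG = zG * yG ^ k :=
  (Commute.pow_left (show Commute yG zG from z_comm_y.symm) k).eq

theorem s_comm_pow (k : ℕ) : yG ^ k * sG = sG * yG ^ k :=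
  (Commute.pow_left (show Commute yG sG from s_comm_y.symm) k).eq

/-- Rigidity. -/
theorem rigid (α : MulAut G) (m : ℕ) (hm : m = 1 ∨ m = 2) (hz : α zG = zG) (hs : α sG = sG)
    (hy : α yG = yG ^ m) : m = 1 ∧ ∃ k < 13, α = MulAut.conj (yG ^ k) := by
  -- the image of the first generator is a transposition commuting with the base one
  have hd : α (gn 0) = dd (phi (α (toPt pA)) z0) := by
    rw [gn_zero, dd, map_mul, map_mul, map_inv, hz]
    exact dd_spec rfl
  set q := phi (α (toPt pA)) z0 with hqd
  clear_value q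
  have hqz : q ≠ z0 := by
    intro e
    rw [e, dd_z0, ← hz] at hd
    have := α.injective hd
    rw [gn_zero, ← dd_z0] at this
    have e2 := congrArg Fin.val (dd_inj this)
    rw [pt_val a_lt] at e2
    exact absurd e2 (by norm_num [Fi23M.zero])
  have hzq : phi zG q = q := by
    rw [← comm_dd, ← hd]
    conv_lhs => rw [← hz, ← map_mul]
    conv_rhs => rw [← hz, ← map_mul]
    rw [d_comm_z]
  obtain ⟨j, hj, hjq⟩ := level1_surj (suborbit_one hqz hzq)
  have hc := cover_ok j hj
  simp only [chkCover, Bool.and_eq_true] at hc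
  generalize field 16 covData j = e at hc
  obtain ⟨hr, he⟩ := hc
  have hr := Table.blt_lt hr
  have he := Table.beq_eq he
  rw [hjq] at he
  -- normalise
  have hwr : phi (wp (repPath (e / 16)).reverse) pA = pt (T.imgWord (repPath (e / 16)) 11589) := by
    refine Fin.ext ?_
    rw [phi_wp, List.reverse_reverse, pt_val a_lt, pt_val (Big.Perms.imgWord_lt Fi23M.invol _ a_lt)]
  set r : Fin T.N := pt (T.imgWord (repPath (e / 16)) 11589) with hrd
  have hrv : (r : ℕ) = T.imgWord (repPath (e / 16)) 11589 :=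
    pt_val (Big.Perms.imgWord_lt Fi23M.invol _ a_lt)
  set k := e % 16 with hkd
  have hkq : phi (yG ^ k) r = q := Fin.ext (by rw [phi_y_pow, hrv, he])
  set β : MulAut G := (MulAut.conj (yG ^ k))⁻¹ * α with hβ
  have bz : β zG = zG := by
    rw [hβ, MulAut.mul_apply, hz]; exact conj_symm_fix (conj_fix_of_comm (z_comm_pow k))
  have bs : β sG = sG := by
    rw [hβ, MulAut.mul_apply, hs]; exact conj_symm_fix (conj_fix_of_comm (s_comm_pow k))
  have bd : β (wp [0]) = wp (conjA (repPath (e / 16))) := by
    rw [conjA_dd _ r hrv.symm, wp_single, hβ, MulAut.mul_apply, hd]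
    exact conj_symm_fix (by rw [dd_conj, hkq])
  have by' : β (wp yWord) = wp (yPowW m) := by
    rw [wp_yPow, hβ, MulAut.mul_apply]
    show (MulAut.conj (yG ^ k))⁻¹ (α yG) = yG ^ m
    rw [hy]
    exact conj_symm_fix (conj_fix_of_comm (((Commute.refl yG).pow_pow k m).eq))
  obtain ⟨i, hi⟩ : ∃ i, i = e / 16 + 270 * (m - 1) := ⟨_, rfl⟩
  have hb := bad_ok i (by rcases hm with rfl | rfl <;> omega)
  simp only [chkBad, Bool.or_eq_true, Bool.and_eq_true, Bool.not_eq_true'] at hb
  rcases hb with h0 | ⟨hlt, hne⟩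
  · have h0 := Table.beq_eq h0
    have hm1 : m = 1 := by omega
    have he0 : e / 16 = 0 := by omega
    subst hm1
    rw [he0, rep_zero] at bd
    have hd0 : wp (conjA []) = gn 0 := wp_single 0
    rw [hd0, wp_single] at bd
    rw [wp_yPow, pow_one] at by'
    have h1 : β = 1 := gens_fixed bz bs bd by'
    refine ⟨rfl, k % 13, Nat.mod_lt _ (by norm_num), ?_⟩
    have : α = MulAut.conj (yG ^ k) := (inv_mul_eq_one.1 h1).symm
    rw [this, ← pow_mod_orderOf, order_y]
  · exfalso
    have hlt := Table.blt_lt hlt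
    rw [show i % 270 = e / 16 by omega, show i / 270 + 1 = m by omega] at hne
    generalize field 24 certData i = c at hlt hne
    by_cases hmem : c / 65536 < tests.length
    · rw [List.getD_eq_getElem _ _ hmem] at hne
      have h1 := wp_one (List.all_eq_true.1 tests_base _ (List.getElem_mem hmem))
      have h2 := map_subst β bz bs bd by' tests[c / 65536]
      rw [h1, map_one] at h2
      have e2 := congrArg (fun g => (phi g (pt (c % 65536)) : ℕ)) h2
      simp only [map_one, Equiv.Perm.one_apply, phi_wp, pt_val (show c % 65536 < T.N from hlt)] at e2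
      exact Nat.ne_of_beq_eq_false hne e2.symm
    · rw [List.getD_eq_default _ _ (by omega)] at hne
      exact Nat.ne_of_beq_eq_false hne rfl

end Cfsg.Agent.Fi23Out
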